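import Groth.Agent.H1DFun.ZarEt
import Groth.Agent.H18Et.FreeSheaf
import Groth.Agent.H18Et.StalkSets
import Groth.Prelude.Def_EtZar

/-!
# Zariski cohomology of étale sheaves which are acyclic on affine étale schemes
-/

set_option autoImplicit false
set_option backward.isDefEq.respectTransparency false
set_option backward.isDefEq.respectTransparency.types false
set_option linter.style.haveILetI false

universe u

open CategoryTheory CategoryTheory.Limits AlgebraicGeometry Opposite Abelian TopologicalSpace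

namespace Groth.Agent.H14Zar

open Groth.Agent.H18Et

variable (S : Scheme.{u})

/-- No higher Ext groups from the free sheaves of affine étale schemes. -/
def AffAcyclic (G : EtCoh.Ab S) : Prop :=
  ∀ (T : S.Etale), IsAffine T.left → ∀ m : ℕ, Subsingleton (Ext ((FreeSheaf.free S).obj T) G (m + 1))

theorem affAcyclic_of_H (G : EtCoh.Ab S)
    (hG : ∀ (T : S.Etale), IsAffine T.left → ∀ i : ℕ, 1 ≤ i →
      Subsingleton (EtCoh.H T.left ((EtCoh.pull T.hom).obj G) i)) : AffAcyclic S G := by
  intro T hT m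
  haveI : Etale T.hom := T.prop
  haveI := H18Et.pull_preservesFiniteLimits T.hom
  let e : FreeSheaf.obj T.hom ≅ T := MorphismProperty.Over.isoMk (Iso.refl _) (by
    show 𝟙 _ ≫ T.hom = 𝟙 T.left ≫ T.hom
    rfl)
  haveI := hG T hT (m + 1) (Nat.le_add_left _ _)
  haveI : Subsingleton (Ext ((FreeSheaf.free S).obj (FreeSheaf.obj T.hom)) G (m + 1)) :=
    (FreeSheaf.phi_bijective T.hom G (m + 1)).1.subsingleton
  refine subsingleton_of_forall_eq 0 fun x => ?_
  have h : (Ext.mk₀ ((FreeSheaf.free S).map e.hom)).comp x (zero_add (m + 1)) = 0 := Subsingleton.elim _ _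
  have h2 := congrArg (fun z => (Ext.mk₀ ((FreeSheaf.free S).map e.inv)).comp z (zero_add (m + 1))) h
  rw [Ext.mk₀_comp_mk₀_assoc, ← (FreeSheaf.free S).map_comp, e.inv_hom_id, CategoryTheory.Functor.map_id] at h2
  simpa using h2

variable {S}

theorem AffAcyclic.surjective {T : ShortComplex (EtCoh.Ab S)} (hT : T.ShortExact) (h₁ : AffAcyclic S T.X₁)
    (V : S.Etale) (hV : IsAffine V.left) : Function.Surjective (T.g.hom.app (op V)) := by
  intro q
  let φ := (FreeSheaf.homEquiv V T.X₃).symm q
  haveI := h₁ V hV 0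
  obtain ⟨x, hx⟩ := Ext.covariant_sequence_exact₃ _ hT (Ext.mk₀ φ) rfl (Subsingleton.elim _ _)
  obtain ⟨ψ, rfl⟩ := (Ext.mk₀_bijective _ _).2 x
  refine ⟨FreeSheaf.homEquiv V T.X₂ ψ, ?_⟩
  rw [← FreeSheaf.homEquiv_comp]
  rw [Ext.mk₀_comp_mk₀] at hx
  rw [(Ext.mk₀_bijective _ _).1 hx]
  exact (FreeSheaf.homEquiv V T.X₃).apply_symm_apply q

theorem AffAcyclic.quotient {T : ShortComplex (EtCoh.Ab S)} (hT : T.ShortExact) [Injective T.X₂]
    (h₁ : AffAcyclic S T.X₁) : AffAcyclic S T.X₃ := by
  intro V hV m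
  refine subsingleton_of_forall_eq 0 fun x => ?_
  haveI := h₁ V hV (m + 1)
  obtain ⟨y, hy⟩ := Ext.covariant_sequence_exact₃ _ hT x rfl (Subsingleton.elim _ _)
  rw [← hy, Ext.eq_zero_of_injective y, Ext.zero_comp]

variable [EtZar.ZarCont S]

theorem shortExact_resZar {T : ShortComplex (EtCoh.Ab S)} (hT : T.ShortExact) (h₁ : AffAcyclic S T.X₁) :
    haveI := (H1DFun.zarAdj S).rightAdjoint_preservesLimits.{0, 0}
    haveI : PreservesFiniteLimits (EtZar.resZar S) := PreservesLimitsOfSize.preservesFiniteLimits _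
    haveI : (EtZar.resZar S).Additive := Functor.additive_of_preserves_binary_products _
    (T.map (EtZar.resZar S)).ShortExact := by
  haveI := (H1DFun.zarAdj S).rightAdjoint_preservesLimits.{0, 0}
  haveI : PreservesFiniteLimits (EtZar.resZar S) := PreservesLimitsOfSize.preservesFiniteLimits _
  haveI : (EtZar.resZar S).Additive := Functor.additive_of_preserves_binary_products _
  haveI := hT.mono_f
  haveI : Mono (T.map (EtZar.resZar S)).f := inferInstanceAs (Mono ((EtZar.resZar S).map T.f))
  haveI : Epi (T.map (EtZar.resZar S)).g := by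
    haveI : Sheaf.IsLocallySurjective (T.map (EtZar.resZar S)).g := by
      refine ⟨fun {U'} s x hx => ?_⟩
      obtain ⟨U, rfl⟩ : ∃ U : S.Opens, U = U' := ⟨U', rfl⟩
      obtain ⟨O, hO, hxO, hOU⟩ := exists_isAffineOpen_mem_and_subset (X := S) (x := x) (U := U) hx
      haveI : IsAffine ((EtZar.zarToEt S).obj O).left := hO
      obtain ⟨t, ht⟩ := AffAcyclic.surjective hT h₁ ((EtZar.zarToEt S).obj O) hO
        (T.X₃.obj.map ((EtZar.zarToEt S).map (homOfLE hOU)).op s)
      exact ⟨O, homOfLE hOU, ⟨t, ht⟩, hxO⟩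
    exact Sheaf.epi_of_isLocallySurjective _
  exact { exact := ((EtZar.resZar S).preservesFiniteLimits_iff_forall_exact_map_and_mono.1 inferInstance T hT).1 }

theorem H_subsingleton [IsAffine S] (G : EtCoh.Ab S) (hG : AffAcyclic S G) (n : ℕ) :
    Subsingleton (EtZar.H ((EtZar.resZar S).obj G) (n + 1)) := by
  haveI := (H1DFun.zarAdj S).rightAdjoint_preservesLimits.{0, 0}
  haveI : PreservesFiniteLimits (EtZar.resZar S) := PreservesLimitsOfSize.preservesFiniteLimits _
  haveI : (EtZar.resZar S).Additive := Functor.additive_of_preserves_binary_products _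
  induction n generalizing G with
  | zero =>
    let T := ShortComplex.mk (Injective.ι G) (cokernel.π (Injective.ι G)) (cokernel.condition _)
    have hT : T.ShortExact := { exact := ShortComplex.exact_of_g_is_cokernel _ (cokernelIsCokernel _) }
    have hT' := shortExact_resZar hT hG
    haveI : Injective T.X₂ := inferInstanceAs (Injective (Injective.under G))
    haveI : Injective (T.map (EtZar.resZar S)).X₂ := H1DFun.injective_resZar_et S T.X₂
    refine subsingleton_of_forall_eq 0 fun x => ?_
    obtain ⟨y, hy⟩ := Ext.covariant_sequence_exact₁ _ hT' x (Ext.eq_zero_of_injective _) (n₀ := 0) rfl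
    haveI : IsAffine ((EtZar.zarToEt S).obj ⊤).left := isAffineOpen_top S
    obtain ⟨t, ht⟩ := AffAcyclic.surjective hT hG ((EtZar.zarToEt S).obj ⊤) (isAffineOpen_top S)
      (Sheaf.H.equiv₀ (T.map (EtZar.resZar S)).X₃ (isTerminalTop : IsTerminal (⊤ : S.Opens)) y)
    let z := (Sheaf.H.equiv₀ (T.map (EtZar.resZar S)).X₂ (isTerminalTop : IsTerminal (⊤ : S.Opens))).symm t
    have hz : Sheaf.H.map (T.map (EtZar.resZar S)).g 0 z = y := by
      apply (Sheaf.H.equiv₀ (T.map (EtZar.resZar S)).X₃ (isTerminalTop : IsTerminal (⊤ : S.Opens))).injective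
      rw [← Sheaf.H.equiv₀_naturality, AddEquiv.apply_symm_apply]
      exact ht
    rw [← hy, ← hz]
    show (z.comp (Ext.mk₀ (T.map (EtZar.resZar S)).g) (add_zero 0)).comp hT'.extClass _ = 0
    rw [Ext.comp_assoc_of_second_deg_zero, ShortComplex.ShortExact.comp_extClass, Ext.comp_zero]
  | succ n ih =>
    let T := ShortComplex.mk (Injective.ι G) (cokernel.π (Injective.ι G)) (cokernel.condition _)
    have hT : T.ShortExact := { exact := ShortComplex.exact_of_g_is_cokernel _ (cokernelIsCokernel _) }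
    have hT' := shortExact_resZar hT hG
    haveI : Injective T.X₂ := inferInstanceAs (Injective (Injective.under G))
    haveI : Injective (T.map (EtZar.resZar S)).X₂ := H1DFun.injective_resZar_et S T.X₂
    refine subsingleton_of_forall_eq 0 fun x => ?_
    obtain ⟨y, hy⟩ := Ext.covariant_sequence_exact₁ _ hT' x (Ext.eq_zero_of_injective _) (n₀ := n + 1) rfl
    haveI : Subsingleton (EtZar.H ((EtZar.resZar S).obj T.X₃) (n + 1)) := ih _ (AffAcyclic.quotient hT hG)
    rw [← hy, Subsingleton.elim (α := EtZar.H ((EtZar.resZar S).obj T.X₃) (n + 1)) y 0, Ext.zero_comp]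

end Groth.Agent.H14Zar
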